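import Cfsg.Agent.Lib.Blocks.RealDefect.Main

/-!
# The fixed character of even degree
-/

set_option autoImplicit false
set_option maxHeartbeats 1600000

open scoped Classical

namespace CfsgLib.Blocks.RealDefect

open Cfsg CfsgLib CfsgLib.Blocks

universe u

variable {G : Type u} [Group G] [Fintype G]

theorem centralizer_conj_card (c a : G) :
    Nat.card (Subgroup.centralizer ({c * a * c⁻¹} : Set G))
      = Nat.card (Subgroup.centralizer ({a} : Set G)) := by
  have e : Subgroup.centralizer ({c * a * c⁻¹} : Set G)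
      = (Subgroup.centralizer ({a} : Set G)).map (MulAut.conj c).toMonoidHom := by
    ext z
    rw [Subgroup.mem_map_equiv, Subgroup.mem_centralizer_singleton_iff,
      Subgroup.mem_centralizer_singleton_iff]
    simp only [MulAut.conj_symm_apply]
    constructor
    · intro h
      calc c⁻¹ * z * c * a = c⁻¹ * (z * (c * a * c⁻¹)) * c := by group
        _ = c⁻¹ * (c * a * c⁻¹ * z) * c := by rw [h]
        _ = a * (c⁻¹ * z * c) := by group
    · intro h
      calc z * (c * a * c⁻¹) = c * (c⁻¹ * z * c * a) * c⁻¹ := by group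
        _ = c * (a * (c⁻¹ * z * c)) * c⁻¹ := by rw [h]
        _ = c * a * c⁻¹ * z := by group
  rw [e]
  exact Subgroup.card_map_of_injective (MulAut.conj c).injective

theorem zmod_two_mul_eq_ite : ∀ a b : ZMod 2, a * b = if a = 1 ∧ b = 1 then 1 else 0 := by
  decide

/-- In a group with abelian 2-subgroups, two involutions with product of order dividing four
commute modulo a normal 2-subgroup of the centraliser. -/
theorem commute_quotient (hab : ∀ H : Subgroup G, IsPGroup 2 H → ∀ a ∈ H, ∀ b ∈ H, Commute a b)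
    (D : Subgroup G) (hD : IsPGroup 2 D)
    (a b : ↥(Subgroup.centralizer (D : Set G)) ⧸ D.subgroupOf (Subgroup.centralizer (D : Set G)))
    (ha : a * a = 1) (hb : b * b = 1) (h4 : (a * b) ^ 4 = 1) : Commute a b := by
  haveI : Fact (Nat.Prime 2) := ⟨Nat.prime_two⟩
  have hp : IsPGroup 2 (Subgroup.zpowers (a * b) ⊔ Subgroup.zpowers a : Subgroup _) := by
    obtain ⟨j, -, hj⟩ := (Nat.dvd_prime_pow Nat.prime_two).1
      (orderOf_dvd_of_pow_eq_one (show (a * b) ^ (2 ^ 2) = 1 from h4))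
    obtain ⟨i, -, hi⟩ := (Nat.dvd_prime_pow Nat.prime_two).1
      (orderOf_dvd_of_pow_eq_one (show a ^ (2 ^ 1) = 1 by rw [pow_one, sq, ha]))
    refine IsPGroup.to_sup_of_normal_left' (Involution.Basic.isPGroup_zpowers (p := 2) hj)
      (Involution.Basic.isPGroup_zpowers (p := 2) hi) ?_
    rw [Subgroup.zpowers_le, Subgroup.mem_normalizer_iff]
    have hai : a⁻¹ = a := inv_eq_self_iff.2 ha
    have hbi : b⁻¹ = b := inv_eq_self_iff.2 hb
    have hconj : a * (a * b) * a⁻¹ = (a * b)⁻¹ := by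
      rw [mul_inv_rev, hbi, ← mul_assoc a a b, ha, one_mul, hai]
    intro z
    constructor
    · rintro ⟨q, rfl⟩
      exact ⟨-q, by dsimp only; rw [← conj_zpow, hconj, inv_zpow, zpow_neg]⟩
    · rintro ⟨q, hq⟩
      refine ⟨-q, ?_⟩
      dsimp only at hq ⊢
      calc (a * b) ^ (-q) = a * (a * b) ^ q * a⁻¹ := by
            rw [← conj_zpow, hconj, inv_zpow, zpow_neg]
        _ = (a * a) * z * (a * a)⁻¹ := by rw [hq]; group
        _ = z := by rw [ha]; group
  set S := Subgroup.zpowers (a * b) ⊔ Subgroup.zpowers a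
  have haS : a ∈ S := Subgroup.mem_sup_right (Subgroup.mem_zpowers a)
  have hbS : b ∈ S := by
    have : a * b ∈ S := Subgroup.mem_sup_left (Subgroup.mem_zpowers _)
    have := mul_mem haS this
    rwa [← mul_assoc, ha, one_mul] at this
  have hker : IsPGroup 2 (QuotientGroup.mk' (D.subgroupOf (Subgroup.centralizer (D : Set G)))).ker := by
    rw [QuotientGroup.ker_mk']
    exact hD.comap_subtype
  have hpre := (hp.comap_of_ker_isPGroup (QuotientGroup.mk' (D.subgroupOf (Subgroup.centralizer (D : Set G)))) hker).map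
    (Subgroup.centralizer (D : Set G)).subtype
  obtain ⟨a0, rfl⟩ := QuotientGroup.mk'_surjective (D.subgroupOf (Subgroup.centralizer (D : Set G))) a
  obtain ⟨b0, rfl⟩ := QuotientGroup.mk'_surjective (D.subgroupOf (Subgroup.centralizer (D : Set G))) b
  exact (show Commute a0 b0 from Subtype.ext
    (hab _ hpre _ ⟨a0, haS, rfl⟩ _ ⟨b0, hbS, rfl⟩).eq).map (QuotientGroup.mk' (D.subgroupOf (Subgroup.centralizer (D : Set G))))

/-- Data: a defect group commuting with an inverting element. -/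
theorem exists_defect_data (hab : ∀ H : Subgroup G, IsPGroup 2 H → ∀ a ∈ H, ∀ b ∈ H, Commute a b)
    {h : G} (h1 : h ≠ 1) (hodd : Odd (orderOf h)) (hreal : IsConj h h⁻¹) :
    ∃ (D : Subgroup G) (x : G), IsPGroup 2 D ∧ (∀ d ∈ D, Commute d h) ∧
      (∀ d ∈ D, Commute d x) ∧ x * h * x⁻¹ = h⁻¹ ∧
      (Nat.card (Subgroup.centralizer ({h} : Set G))).factorization 2
        = (Nat.card D).factorization 2 ∧
      (∃ j : ℕ, orderOf x = 2 ^ j) ∧
      (Nat.card D).factorization 2 < (Nat.card G).factorization 2 := by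
  haveI : Fact (Nat.Prime 2) := ⟨Nat.prime_two⟩
  obtain ⟨c, hc⟩ := isConj_iff.1 hreal
  let K : Subgroup G :=
    { carrier := {g | g * h * g⁻¹ = h ∨ g * h * g⁻¹ = h⁻¹}
      one_mem' := Or.inl (by simp)
      mul_mem' := by
        intro a b ha hb
        have e : a * b * h * (a * b)⁻¹ = a * (b * h * b⁻¹) * a⁻¹ := by group
        show _ ∨ _
        rw [e]
        rcases hb with hb | hb <;> rw [hb]
        · exact ha
        · rcases ha with ha | ha
          · exact Or.inr (by rw [← conj_inv, ha])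
          · exact Or.inl (by rw [← conj_inv, ha, inv_inv])
      inv_mem' := by
        intro a ha
        show _ ∨ _
        rcases ha with ha | ha
        · left
          calc a⁻¹ * h * a⁻¹⁻¹ = a⁻¹ * (a * h * a⁻¹) * a⁻¹⁻¹ := by rw [ha]
            _ = h := by group
        · right
          calc a⁻¹ * h * a⁻¹⁻¹ = a⁻¹ * (a * h * a⁻¹)⁻¹ * a⁻¹⁻¹ := by rw [ha]; simp only [inv_inv]
            _ = h⁻¹ := by group }
  obtain ⟨j, m, hm, hjm⟩ := Nat.exists_eq_two_pow_mul_odd (orderOf_pos c).ne'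
  set x := c ^ m with hx
  have hxo : orderOf x = 2 ^ j := by
    rw [hx, orderOf_pow' _ hm.pos.ne', hjm, Nat.gcd_eq_right (Dvd.intro_left _ rfl),
      Nat.mul_div_cancel _ hm.pos]
  have hcK : c ∈ K := Or.inr hc
  have hxh : x * h * x⁻¹ = h⁻¹ := by
    obtain ⟨q, rfl⟩ := hm
    have h2 : c ^ 2 * h * (c ^ 2)⁻¹ = h := by
      rw [sq, show c * c * h * (c * c)⁻¹ = c * (c * h * c⁻¹) * c⁻¹ by group, hc, ← conj_inv, hc,
        inv_inv]
    have h2q : ∀ i : ℕ, (c ^ 2) ^ i * h * ((c ^ 2) ^ i)⁻¹ = h := fun i => by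
      induction i with
      | zero => simp
      | succ i ih =>
        rw [pow_succ, show (c ^ 2) ^ i * c ^ 2 * h * ((c ^ 2) ^ i * c ^ 2)⁻¹
          = (c ^ 2) ^ i * (c ^ 2 * h * (c ^ 2)⁻¹) * ((c ^ 2) ^ i)⁻¹ by group, h2, ih]
    rw [hx, pow_succ', pow_mul, show c * (c ^ 2) ^ q * h * (c * (c ^ 2) ^ q)⁻¹
      = c * ((c ^ 2) ^ q * h * ((c ^ 2) ^ q)⁻¹) * c⁻¹ by group, h2q, hc]
  have hxK : x ∈ K := pow_mem hcK m
  obtain ⟨Q0, hQ0⟩ := (Involution.Basic.isPGroup_zpowers (p := 2) (x := (⟨x, hxK⟩ : K)) (k := j)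
    (by rw [← Subgroup.orderOf_coe]; exact hxo)).exists_le_sylow
  set Q : Subgroup G := (Q0 : Subgroup K).map K.subtype with hQ
  have hQp : IsPGroup 2 Q := Q0.2.map _
  have hxQ : x ∈ Q := ⟨⟨x, hxK⟩, hQ0 (Subgroup.mem_zpowers _), rfl⟩
  set C := Subgroup.centralizer ({h} : Set G) with hC
  set D := Q ⊓ C with hDdef
  have hDp : IsPGroup 2 D := hQp.to_le inf_le_left
  have hxD : x ∉ D := fun hxd => by
    have := Subgroup.mem_centralizer_singleton_iff.1 (Subgroup.mem_inf.1 hxd).2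
    rw [this, mul_inv_cancel_right] at hxh
    refine h1 (orderOf_eq_one_iff.1 ?_)
    have hd : orderOf h ∣ 2 := orderOf_dvd_of_pow_eq_one (by rw [sq]; exact eq_inv_iff_mul_eq_one.1 hxh)
    rcases (Nat.dvd_prime Nat.prime_two).1 hd with h' | h'
    · exact h'
    · rw [h'] at hodd; exact absurd hodd (by decide)
  refine ⟨D, x, hDp, fun d hd => Subgroup.mem_centralizer_singleton_iff.1 (Subgroup.mem_inf.1 hd).2,
    fun d hd => hab Q hQp d (Subgroup.mem_inf.1 hd).1 x hxQ, hxh, ?_, ⟨j, hxo⟩, ?_⟩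
  · obtain ⟨R, hR⟩ := (hDp.comap_subtype (K := C)).exists_le_sylow
    have hCK : C ≤ K := fun z hz => Or.inl (by
      rw [Subgroup.mem_centralizer_singleton_iff.1 hz, mul_inv_cancel_right])
    have hRK : IsPGroup 2 ((R : Subgroup C).map (Subgroup.inclusion hCK)) := R.2.map _
    obtain ⟨R0, hR0⟩ := hRK.exists_le_sylow
    obtain ⟨z, hz⟩ := MulAction.exists_smul_eq K R0 Q0
    have himg : ((R : Subgroup C).map C.subtype).map (MulAut.conj (z : G)).toMonoidHom ≤ D := by
      rintro _ ⟨_, ⟨r, hr, rfl⟩, rfl⟩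
      refine Subgroup.mem_inf.2 ⟨?_, ?_⟩
      · refine ⟨z * Subgroup.inclusion hCK r * z⁻¹, ?_, rfl⟩
        rw [← hz]
        exact Subgroup.smul_mem_pointwise_smul _ (MulAut.conj z) _ (hR0 ⟨r, hr, rfl⟩)
      · show (z : G) * r * (z : G)⁻¹ ∈ C
        have hr' : Commute (r : G) h := Subgroup.mem_centralizer_singleton_iff.1 r.2
        refine Subgroup.mem_centralizer_singleton_iff.2 ?_
        have hz2 : (z : G)⁻¹ * h * z = h ∨ (z : G)⁻¹ * h * z = h⁻¹ := by
          have hzi : (z : G)⁻¹ * h * (z : G)⁻¹⁻¹ = h ∨ (z : G)⁻¹ * h * (z : G)⁻¹⁻¹ = h⁻¹ :=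
            K.inv_mem z.2
          rwa [inv_inv] at hzi
        have : Commute (r : G) ((z : G)⁻¹ * h * z) := by
          rcases hz2 with e | e <;> rw [e]
          exacts [hr', hr'.inv_right]
        calc (z : G) * r * (z : G)⁻¹ * h
            = (z : G) * ((r : G) * ((z : G)⁻¹ * h * z)) * (z : G)⁻¹ := by group
          _ = (z : G) * (((z : G)⁻¹ * h * z) * r) * (z : G)⁻¹ := by rw [this.eq]
          _ = h * ((z : G) * r * (z : G)⁻¹) := by group
    have hcard := Subgroup.card_dvd_of_le himg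
    rw [Subgroup.card_map_of_injective (MulAut.conj (z : G)).injective,
      Subgroup.card_map_of_injective C.subtype_injective, R.card_eq_multiplicity,
      Nat.prime_two.pow_dvd_iff_le_factorization Nat.card_pos.ne'] at hcard
    exact le_antisymm hcard ((Nat.factorization_le_iff_dvd Nat.card_pos.ne' Nat.card_pos.ne').2
      (Subgroup.card_dvd_of_le inf_le_right) 2)
  · obtain ⟨nD, hnD⟩ := IsPGroup.iff_card.1 hDp
    obtain ⟨nQ, hnQ⟩ := IsPGroup.iff_card.1 hQp
    have hlt : Nat.card D < Nat.card Q := by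
      refine lt_of_le_of_ne (Subgroup.card_le_of_le inf_le_left) fun e => hxD ?_
      exact (SetLike.ext_iff.1 (Subgroup.eq_of_le_of_card_ge (H := D) inf_le_left e.ge) x).2 hxQ
    rw [hnD, hnQ, Nat.pow_lt_pow_iff_right (by norm_num)] at hlt
    have hQG := (Nat.prime_two.pow_dvd_iff_le_factorization (Nat.card_pos (α := G)).ne').1
      (hnQ ▸ Subgroup.card_subgroup_dvd_card Q)
    rw [hnD, Nat.prime_two.factorization_pow, Finsupp.single_eq_same]
    omega

/-- The main theorem. -/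
theorem exists_fixed_even {M : Ideal AlgInt} (hM : IsPModular 2 M)
    (hab : ∀ H : Subgroup G, IsPGroup 2 H → ∀ a ∈ H, ∀ b ∈ H, Commute a b) {k : ℕ}
    (hk₁ : ∀ g : G, (∃ j : ℕ, orderOf g = 2 ^ j) → g ^ k = g)
    (hk₂ : ∀ g : G, Odd (orderOf g) → g ^ k = g⁻¹)
    {h : G} (h1 : h ≠ 1) (hodd : Odd (orderOf h)) (hreal : IsConj h h⁻¹) :
    ∃ χ : IrrCharacter G, Even (charDegree (χ : G → ℂ)) ∧
      ∀ g : G, (χ : G → ℂ) (g ^ k) = (χ : G → ℂ) g := by
  haveI : Fact (Nat.Prime 2) := ⟨Nat.prime_two⟩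
  by_contra hcon
  push Not at hcon
  obtain ⟨D, x, hD, hDh, hDx, hxh, hhcard, ⟨jx, hjx⟩, hlt⟩ := exists_defect_data hab h1 hodd hreal
  set Cd := Subgroup.centralizer (D : Set G) with hCd
  set dd := (Nat.card D).factorization 2 with hdd
  set Z : Finset G := Finset.univ.filter fun z => Odd (orderOf z) ∧
    (Nat.card (Subgroup.centralizer ({z} : Set G))).factorization 2 = dd ∧
    ∃ g : G, g * z * g⁻¹ ∈ Cd with hZ
  have hconj_o : ∀ a c : G, orderOf (c * a * c⁻¹) = orderOf a := fun a c =>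
    (MulAut.conj c).orderOf_eq a
  have hZconj : ∀ a c : G, a ∈ Z → c * a * c⁻¹ ∈ Z := by
    intro a c ha
    simp only [hZ, Finset.mem_filter, Finset.mem_univ, true_and] at ha ⊢
    obtain ⟨h1, h2, g, hg⟩ := ha
    exact ⟨by rwa [hconj_o], by rwa [centralizer_conj_card], g * c⁻¹, by
      rwa [show g * c⁻¹ * (c * a * c⁻¹) * (g * c⁻¹)⁻¹ = g * a * g⁻¹ by group]⟩
  have hZinv : ∀ a : G, a ∈ Z → a⁻¹ ∈ Z := by
    intro a ha
    simp only [hZ, Finset.mem_filter, Finset.mem_univ, true_and] at ha ⊢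
    obtain ⟨h1, h2, g, hg⟩ := ha
    refine ⟨by rwa [orderOf_inv], ?_, g, by rw [← conj_inv]; exact inv_mem hg⟩
    have e : Subgroup.centralizer ({a⁻¹} : Set G) = Subgroup.centralizer ({a} : Set G) := by
      ext z
      simp only [Subgroup.mem_centralizer_singleton_iff]
      exact Commute.inv_right_iff
    rwa [e]
  -- membership on `Cd` and odd centralisers in the quotient
  have hDoddC : ∀ a : Cd, (a : G) ∈ Z ↔ Odd (orderOf (a : G)) ∧ cc (proj D a) = 1 := by
    intro a
    simp only [hZ, Finset.mem_filter, Finset.mem_univ, true_and]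
    rw [cc_eq_natCard, ZMod.natCast_eq_one_iff_odd]
    exact ⟨fun ⟨h1, h2, _⟩ => ⟨h1, (odd_centralizer_proj_iff hab hD h1).2 h2⟩,
      fun ⟨h1, h2⟩ => ⟨h1, (odd_centralizer_proj_iff hab hD h1).1 h2, 1, by simp⟩⟩
  set hC : Cd := ⟨h, Subgroup.mem_centralizer_iff.2 fun d hd => (hDh d hd).eq⟩ with hhC
  set xC : Cd := ⟨x, Subgroup.mem_centralizer_iff.2 fun d hd => (hDx d hd).eq⟩ with hxC
  have hcg : Odd (Nat.card (Subgroup.centralizer ({proj D hC} : Set (_ ⧸ D.subgroupOf Cd)))) :=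
    (odd_centralizer_proj_iff hab hD (y := hC) hodd).2 hhcard
  have hgodd : Odd (orderOf (proj D hC)) :=
    hodd.of_dvd_nat ((orderOf_map_dvd (proj D) hC).trans (by rw [← Subgroup.orderOf_coe]))
  have hxinv : proj D xC * proj D hC * (proj D xC)⁻¹ = (proj D hC)⁻¹ := by
    rw [← map_inv, ← map_inv, ← map_mul, ← map_mul]
    exact congrArg _ (Subtype.ext hxh)
  have hx2 : proj D xC * proj D xC = 1 := by
    have hm : proj D (xC * xC) ∈ Subgroup.centralizer ({proj D hC} : Set (_ ⧸ D.subgroupOf Cd)) := by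
      refine Subgroup.mem_centralizer_singleton_iff.2 (mul_inv_eq_iff_eq_mul.1 ?_)
      rw [map_mul, show proj D xC * proj D xC * proj D hC * (proj D xC * proj D xC)⁻¹
        = proj D xC * (proj D xC * proj D hC * (proj D xC)⁻¹) * (proj D xC)⁻¹ by group, hxinv,
        ← conj_inv, hxinv, inv_inv]
    have hd : orderOf (proj D (xC * xC)) ∣ 2 ^ jx := by
      refine (orderOf_map_dvd (proj D) _).trans ?_
      rw [← Subgroup.orderOf_coe, ← hjx, show ((xC * xC : Cd) : G) = x ^ 2 from (sq x).symm]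
      exact orderOf_pow_dvd 2
    rw [← map_mul, ← orderOf_eq_one_iff]
    exact Nat.eq_one_of_dvd_coprimes (Nat.Coprime.pow_left jx (Nat.coprime_two_left.2 hcg)) hd
      (Subgroup.orderOf_dvd_natCard _ hm)
  have hxinv' : proj D xC * proj D hC * proj D xC = (proj D hC)⁻¹ := by
    rw [← hxinv, inv_eq_of_mul_eq_one_right hx2]
  have hparity := sum_cc_mul_cc (commute_quotient hab D hD) hgodd hx2 hxinv' hcg
  -- counting
  set s : G → ℕ := fun v => (Z.filter fun a => a⁻¹ * v ∈ Z).card with hs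
  have hfixpt : ∀ d : D, ((s (h * d) : ℕ) : ZMod 2)
      = ((Finset.univ.filter fun a : Cd =>
          (a : G) ∈ Z ∧ (a : G)⁻¹ * (h * d) ∈ Z).card : ZMod 2) := by
    intro d
    let S : Type u := {a : G // a ∈ Z ∧ a⁻¹ * (h * d) ∈ Z}
    have hfix : ∀ e : D, (e : G) * (h * d) * (e : G)⁻¹ = h * d := fun e => by
      have : Commute (e : G) (h * d) :=
        (hDh e e.2).mul_right (hab D hD e e.2 d d.2)
      rw [this.eq, mul_inv_cancel_right]
    letI : MulAction D S :=
      { smul := fun e a => ⟨(e : G) * a.1 * (e : G)⁻¹, hZconj _ _ a.2.1, by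
          have h2 := hZconj _ (e : G) a.2.2
          rwa [show (e : G) * (a.1⁻¹ * (h * d)) * (e : G)⁻¹
            = ((e : G) * a.1 * (e : G)⁻¹)⁻¹ * ((e : G) * (h * d) * (e : G)⁻¹) by group, hfix e] at h2⟩
        one_smul := fun a => Subtype.ext (by simp [HSMul.hSMul, SMul.smul])
        mul_smul := fun e e' a => Subtype.ext (by simp [HSMul.hSMul, SMul.smul, mul_assoc]) }
    have hsmul : ∀ (e : D) (a : S), (e • a).1 = (e : G) * a.1 * (e : G)⁻¹ := fun _ _ => rfl
    have hmod := hD.card_modEq_card_fixedPoints S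
    rw [← ZMod.natCast_eq_natCast_iff] at hmod
    have e1 : s (h * d) = Nat.card S := by
      rw [Nat.card_eq_fintype_card, Fintype.card_subtype]
      exact congrArg Finset.card (by ext a; simp [hs])
    have e2 : Nat.card (MulAction.fixedPoints D S) = (Finset.univ.filter fun a : Cd =>
        (a : G) ∈ Z ∧ (a : G)⁻¹ * (h * d) ∈ Z).card := by
      rw [← Fintype.card_subtype, Nat.card_eq_fintype_card]
      refine Fintype.card_congr
        { toFun := fun a => ⟨⟨a.1.1, Subgroup.mem_centralizer_iff.2 fun e he => ?_⟩, a.1.2⟩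
          invFun := fun a => ⟨⟨a.1.1, a.2⟩, fun e => Subtype.ext ?_⟩
          left_inv := fun a => rfl
          right_inv := fun a => rfl }
      · have := congrArg Subtype.val (a.2 ⟨e, he⟩)
        rw [hsmul] at this
        exact mul_inv_eq_iff_eq_mul.1 this
      · rw [hsmul]
        exact mul_inv_eq_of_eq_mul (Subgroup.mem_centralizer_iff.1 a.1.2 e e.2)
    rw [e1, hmod, e2]
  have hM0 : Odd (∑ d : D, s (h * d)) := by
    rw [← ZMod.natCast_eq_one_iff_odd, Nat.cast_sum, Finset.sum_congr rfl fun d _ => hfixpt d,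
      ← Nat.cast_sum, ← Finset.card_sigma]
    refine Eq.trans ?_ hparity
    have e : ∀ u : _ ⧸ D.subgroupOf Cd, cc u * cc (u⁻¹ * proj D hC)
        = if cc u = 1 ∧ cc (u⁻¹ * proj D hC) = 1 then 1 else 0 :=
      fun u => zmod_two_mul_eq_ite _ _
    rw [Finset.sum_congr rfl fun u _ => e u, Finset.sum_boole]
    congr 1
    refine Finset.card_bij (fun p _ => proj D p.2) ?_ ?_ ?_
    · rintro ⟨d, a⟩ hp
      simp only [Finset.mem_sigma, Finset.mem_filter, Finset.mem_univ, true_and] at hp ⊢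
      refine ⟨((hDoddC a).1 hp.1).2, ?_⟩
      set w : Cd := a⁻¹ * (hC * ⟨d, Subgroup.mem_centralizer_iff.2 fun e he =>
        (hab D hD e he d d.2).eq⟩)
      have := ((hDoddC w).1 hp.2).2
      rwa [map_mul, map_inv, map_mul, proj_eq_one.2 (show ((⟨(d : G), _⟩ : Cd) : G) ∈ D from d.2),
        mul_one] at this
    · rintro ⟨d, a⟩ hp ⟨d', a'⟩ hp' he
      simp only [Finset.mem_sigma, Finset.mem_filter, Finset.mem_univ, true_and] at hp hp'
      have hd : ∀ e : D, (e : G) ∈ Cd := fun e =>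
        Subgroup.mem_centralizer_iff.2 fun e' he' => (hab D hD e' he' e e.2).eq
      have ha : a = a' := proj_injOn_odd hD ((hDoddC a).1 hp.1).1 ((hDoddC a').1 hp'.1).1 he
      subst ha
      have := proj_injOn_odd hD
        ((hDoddC (a⁻¹ * (hC * ⟨d, hd d⟩))).1 hp.2).1
        ((hDoddC (a⁻¹ * (hC * ⟨d', hd d'⟩))).1 hp'.2).1
        (by simp [map_mul, proj_eq_one.2 (show ((⟨(d : G), hd d⟩ : Cd) : G) ∈ D from d.2),
          proj_eq_one.2 (show ((⟨(d' : G), hd d'⟩ : Cd) : G) ∈ D from d'.2)])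
      have h'' := mul_left_cancel (mul_left_cancel this)
      have h' : (d : G) = d' := congrArg (fun z : Cd => (z : G)) h''
      rw [Subtype.ext h']
    · intro u hu
      simp only [Finset.mem_filter, Finset.mem_univ, true_and] at hu
      have lift : ∀ v : _ ⧸ D.subgroupOf Cd, cc v = 1 →
          ∃ a : Cd, proj D a = v ∧ Odd (orderOf (a : G)) := by
        intro v hv
        have hvo : Odd (orderOf v) := by
          rw [cc_eq_natCard, ZMod.natCast_eq_one_iff_odd] at hv
          exact hv.of_dvd_nat (Subgroup.orderOf_dvd_natCard _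
            (Subgroup.mem_centralizer_singleton_iff.2 rfl))
        set A := (Nat.card G).factorization 2
        obtain ⟨a0, ha0⟩ := QuotientGroup.mk'_surjective (D.subgroupOf Cd) v
        change proj D a0 = v at ha0
        obtain ⟨m, hm⟩ := exists_pow_eq_self_of_coprime
          ((Nat.coprime_two_left.2 hvo).pow_left A)
        refine ⟨(a0 ^ 2 ^ A) ^ m, by rw [map_pow, map_pow, ha0, hm], ?_⟩
        have hd : orderOf (((a0 ^ 2 ^ A) ^ m : Cd) : G) ∣ Nat.card G / 2 ^ A := by
          rw [Subgroup.coe_pow, Subgroup.coe_pow]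
          refine (orderOf_pow_dvd m).trans (orderOf_dvd_of_pow_eq_one ?_)
          rw [← pow_mul, Nat.ordProj_mul_ordCompl_eq_self, pow_card_eq_one']
        exact (Nat.not_even_iff_odd.1 fun he => Nat.not_dvd_ordCompl Nat.prime_two Nat.card_pos.ne'
          (even_iff_two_dvd.1 he)).of_dvd_nat hd
      obtain ⟨a, ha, hao⟩ := lift u hu.1
      obtain ⟨w, hw, hwo⟩ := lift _ hu.2
      have hdm : ((hC⁻¹ * (a * w) : Cd) : G) ∈ D := proj_eq_one.1 (by
        rw [map_mul, map_inv, map_mul, ha, hw, mul_inv_cancel_left, inv_mul_cancel])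
      refine ⟨⟨⟨_, hdm⟩, a⟩, ?_, ha⟩
      simp only [Finset.mem_sigma, Finset.mem_filter, Finset.mem_univ, true_and]
      refine ⟨(hDoddC a).2 ⟨hao, by rw [ha]; exact hu.1⟩, ?_⟩
      have : (a : G)⁻¹ * (h * ((hC⁻¹ * (a * w) : Cd) : G)) = w := by
        push_cast
        rw [hhC]
        group
      rw [this]
      exact (hDoddC w).2 ⟨hwo, by rw [hw]; exact hu.2⟩
  -- characters
  set f : G → ℂ := fun g => if g ∈ Z then 1 else 0 with hf
  have hfc : IsClassFunction G f := fun a c =>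
    if_congr ⟨fun hh => by
      have := hZconj _ c⁻¹ hh
      rwa [show c⁻¹ * (c * a * c⁻¹) * c⁻¹⁻¹ = a by group] at this, hZconj a c⟩ rfl rfl
  set W : IrrCharacter G → ℂ := fun χ => omega (χ : G → ℂ) f
  set E : IrrCharacter G → ℂ := fun χ =>
    (Nat.card D : ℂ)⁻¹ * ∑ d : D, (χ : G → ℂ) (h⁻¹ * d)
  set B : IrrCharacter G → ℂ := fun χ =>
    W χ * (χ : G → ℂ) 1 * (Nat.card D : ℂ) / (Nat.card G : ℂ)
  have hDne : (Nat.card D : ℂ) ≠ 0 := Nat.cast_ne_zero.2 Nat.card_pos.ne'
  have hsum : ((∑ d : D, s (h * d) : ℕ) : ℂ) = ∑ χ : IrrCharacter G, W χ * B χ * E χ := by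
    have hsv : ∀ v : G, (s v : ℂ) = fourierInv (fun χ => W χ * W χ) v := fun v => by
      rw [← fourierInv_mul, fourierInv_omega hfc]
      simp only [hs, hf, ite_mul, one_mul, zero_mul, Finset.sum_ite_mem, Finset.univ_inter,
        Finset.sum_boole]
    have hfix : ∀ χ : IrrCharacter G, ∑ d : D, (χ : G → ℂ) (h * d)⁻¹ = (Nat.card D : ℂ) * E χ := by
      intro χ
      rw [← mul_assoc, mul_inv_cancel₀ hDne, one_mul]
      refine Fintype.sum_equiv (Equiv.inv D) _ _ fun d => ?_
      simp [mul_inv_rev, ((hDh d d.2).inv_inv).eq]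
    push_cast
    simp only [hsv, fourierInv]
    rw [← Finset.mul_sum, Finset.sum_comm, Finset.mul_sum]
    refine Finset.sum_congr rfl fun χ _ => ?_
    rw [← Finset.mul_sum, ← Finset.mul_sum, hfix]
    simp only [B]
    ring
  have hWR : ∀ χ : IrrCharacter G, MemLocalRing M (W χ) := fun χ =>
    omega_LR hM χ hfc fun g => by
      by_cases hg : g ∈ Z <;> simp [hf, hg, LR.one hM, LR.zero hM]
  have hER : ∀ χ : IrrCharacter G, MemLocalRing M (E χ) := fun χ =>
    LR.of_isIntegral hM (isIntegral_average_coset h⁻¹ D (fun d hd => (hDh d hd).symm.inv_left) χ)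
  have hindex : ∀ g : G, g ∈ Z → ∃ o : ℕ, ¬ 2 ∣ o ∧
      Nat.card G = (Subgroup.centralizer ({g} : Set G)).index * (Nat.card D * o) := by
    intro g hg
    refine ⟨Nat.card (Subgroup.centralizer ({g} : Set G)) / 2 ^ dd, ?_, ?_⟩
    · rw [← (Finset.mem_filter.1 hg).2.2.1]
      exact Nat.not_dvd_ordCompl Nat.prime_two Nat.card_pos.ne'
    · obtain ⟨n, hn⟩ := IsPGroup.iff_card.1 hD
      have : Nat.card D = 2 ^ dd := by
        rw [hdd, hn, Nat.prime_two.factorization_pow, Finsupp.single_eq_same]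
      rw [this, ← (Finset.mem_filter.1 hg).2.2.1, Nat.ordProj_mul_ordCompl_eq_self,
        Subgroup.index_mul_card]
  have hBR : ∀ χ : IrrCharacter G, MemLocalRing M (B χ) := by
    intro χ
    simp only [B, W]
    rw [omega_eq_sum_centralChar χ hfc, Finset.sum_mul, Finset.sum_mul, Finset.sum_div]
    refine LR.sum hM fun C _ => ?_
    by_cases hg : C.out ∈ Z
    · obtain ⟨o, ho, hcard⟩ := hindex _ hg
      have ho0 : (o : ℂ) ≠ 0 := Nat.cast_ne_zero.2 fun h => ho (h ▸ dvd_zero 2)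
      have hi0 : ((Subgroup.centralizer ({C.out} : Set G)).index : ℂ) ≠ 0 :=
        Nat.cast_ne_zero.2 Subgroup.index_ne_zero_of_finite
      have e : f C.out * centralChar (χ : G → ℂ) C.out * (χ : G → ℂ) 1 * (Nat.card D : ℂ)
          / (Nat.card G : ℂ) = (χ : G → ℂ) C.out * (o : ℂ)⁻¹ := by
        simp only [hf]
        rw [if_pos hg, centralChar, hcard]
        have := irr_one_ne_zero χ
        push_cast
        field_simp
      rw [e]
      exact LR.mul hM (LR.of_isIntegral hM (irr_isIntegral χ _))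
        (LR.inv hM (LR.natCast hM o) fun h => ho ((LI.natCast_iff hM o).1 h))
    · simp [hf, hg, LR.zero hM]
  have hWI : ∀ χ : IrrCharacter G, Odd (charDegree (χ : G → ℂ)) → MemLocalIdeal M (W χ) := by
    intro χ hχ
    simp only [W]
    rw [omega_eq_sum_centralChar χ hfc]
    refine LI.sum hM fun C _ => ?_
    by_cases hg : C.out ∈ Z
    · obtain ⟨o, ho, hcard⟩ := hindex _ hg
      have h2 : 2 ∣ (Subgroup.centralizer ({C.out} : Set G)).index := by
        by_contra hcon2
        have hfac := congrArg (fun n => n.factorization 2) hcard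
        have hoN : o ≠ 0 := by rintro rfl; exact ho (dvd_zero 2)
        beta_reduce at hfac
        rw [Nat.factorization_mul Subgroup.index_ne_zero_of_finite
          (mul_ne_zero Nat.card_pos.ne' hoN), Nat.factorization_mul Nat.card_pos.ne' hoN,
          Finsupp.add_apply, Finsupp.add_apply, Nat.factorization_eq_zero_of_not_dvd hcon2,
          Nat.factorization_eq_zero_of_not_dvd ho, zero_add, add_zero] at hfac
        omega
      rw [centralChar, irr_one_eq, div_eq_mul_inv]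
      refine LI.mul_left hM ?_ (LI.mul_right hM (LI.mul_right hM ((LI.natCast_iff hM _).2 h2)
        (LR.of_isIntegral hM (irr_isIntegral χ _))) (LR.inv hM (LR.natCast hM _) fun h =>
          (Nat.not_even_iff_odd.2 hχ) (even_iff_two_dvd.2 ((LI.natCast_iff hM _).1 h))))
      simp [hf, hg, LR.one hM]
    · simp [hf, hg, LI.zero hM]
  have hI : MemLocalIdeal M (∑ χ : IrrCharacter G, W χ * B χ * E χ) := by
    refine LI_sum_of_involutive hM _ (twist hk₁ hk₂) _ (fun _ _ => Finset.mem_univ _)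
      (fun χ _ => twist_twist hk₁ hk₂ χ) (fun χ _ => ?_)
      (fun χ _ => LR.mul hM (LR.mul hM (hWR χ) (hBR χ)) (hER χ)) (fun χ _ hfx => ?_)
    · have eW : W (twist hk₁ hk₂ χ) = W χ := by
        simp only [W, omega, twist_one]
        congr 1
        refine Fintype.sum_equiv (Equiv.inv G) _ _ fun g => ?_
        by_cases hg : g ∈ Z
        · show f g * (χ : G → ℂ) (g ^ k) = f g⁻¹ * (χ : G → ℂ) g⁻¹
          rw [hk₂ g (Finset.mem_filter.1 hg).2.1, hf]
          simp [hg, hZinv g hg]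
        · have : g⁻¹ ∉ Z := fun h => hg (by simpa using hZinv _ h)
          simp [hf, hg, this]
      have eE : E (twist hk₁ hk₂ χ) = E χ := by
        simp only [E]
        congr 1
        refine Finset.sum_congr rfl fun d _ => ?_
        show (χ : G → ℂ) ((h⁻¹ * d) ^ k) = _
        obtain ⟨jd, hjd⟩ := IsPGroup.iff_orderOf.1 hD d
        rw [(hDh d d.2).symm.inv_left.mul_pow, hk₂ h⁻¹ (by rwa [orderOf_inv]),
          hk₁ d ⟨jd, by rw [Subgroup.orderOf_coe, hjd]⟩, inv_inv]
        rw [← irr_conj_apply χ (h⁻¹ * d) x]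
        congr 1
        rw [show x * (h⁻¹ * d) * x⁻¹ = (x * h * x⁻¹)⁻¹ * (x * d * x⁻¹) by group, hxh, inv_inv,
          ← (hDx d d.2).eq, mul_inv_cancel_right]
      simp only [B, eW, eE, twist_one]
    · rcases Nat.even_or_odd (charDegree (χ : G → ℂ)) with he | ho
      · obtain ⟨g, hg⟩ := hcon χ he
        exact absurd (fixed_of_twist hk₁ hk₂ hfx g) hg
      · exact LI.mul_right hM (LI.mul_right hM (hWI χ ho) (hBR χ)) (hER χ)
  rw [← hsum, LI.natCast_iff hM] at hI
  exact (Nat.not_even_iff_odd.2 hM0) (even_iff_two_dvd.2 hI)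

/-- Simple groups of even order with abelian Sylow 2-subgroups. -/
theorem exists_fixed_of_simple [IsSimpleGroup G] (hna : ¬ IsMulCommutative G)
    (hev : Even (Nat.card G)) (P : Sylow 2 G) (hP : IsMulCommutative P) {M : Ideal AlgInt}
    (hM : IsPModular 2 M) {k : ℕ}
    (hk₁ : ∀ g : G, (∃ j : ℕ, orderOf g = 2 ^ j) → g ^ k = g)
    (hk₂ : ∀ g : G, Odd (orderOf g) → g ^ k = g⁻¹) :
    (∃ χ : IrrCharacter G, Even (charDegree (χ : G → ℂ)) ∧
      ∀ g : G, (χ : G → ℂ) (g ^ k) = (χ : G → ℂ) g) ∧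
    ∃ χ ∈ principalBlock M G, (χ : G → ℂ) ≠ (fun _ => 1) ∧
      ∀ g : G, (χ : G → ℂ) (g ^ k) = (χ : G → ℂ) g := by
  haveI : Fact (Nat.Prime 2) := ⟨Nat.prime_two⟩
  refine ⟨?_, exists_fixed_principal hM hev hk₁ hk₂⟩
  have hab : ∀ H : Subgroup G, IsPGroup 2 H → ∀ a ∈ H, ∀ b ∈ H, Commute a b := by
    intro H hH a ha b hb
    obtain ⟨Q, hQ⟩ := hH.exists_le_sylow
    haveI := hP
    obtain ⟨e⟩ : Nonempty (↥(Q : Subgroup G) ≃* ↥(P : Subgroup G)) := ⟨Q.equiv P⟩
    have := e.injective (a₁ := ⟨a, hQ ha⟩ * ⟨b, hQ hb⟩) (a₂ := ⟨b, hQ hb⟩ * ⟨a, hQ ha⟩)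
      (by rw [map_mul, map_mul]; exact mul_comm' _ _)
    exact congrArg Subtype.val this
  obtain ⟨t, ht⟩ := exists_prime_orderOf_dvd_card' 2 (even_iff_two_dvd.1 hev)
  have hO : ∀ N : Subgroup G, N.Normal → IsPGroup 2 N → t ∉ N := by
    intro N hN hN2 htN
    rcases IsSimpleGroup.eq_bot_or_eq_top_of_normal N hN with rfl | rfl
    · rw [Subgroup.mem_bot.1 htN, orderOf_one] at ht
      norm_num at ht
    · exact hna ⟨⟨fun a b => (hab ⊤ hN2 a trivial b trivial).eq⟩⟩
  obtain ⟨h, h1, hodd, hinv⟩ := Involution.BaerSuzuki.exists_inverted_odd t ht hO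
  exact exists_fixed_even hM hab hk₁ hk₂ h1 hodd (isConj_iff.2 ⟨t, hinv⟩)

end CfsgLib.Blocks.RealDefect
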