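import Mathlib

/-!
# Parity of the number of factorisations of a real element into elements with odd centralisers

Let `g` be an element of odd order with centraliser of odd order, inverted by an involution `x`, in a
group in which two involutions whose product has order dividing four commute.  Then the number of
factorisations `g = u * w` with both centralisers of odd order is odd.
-/

set_option autoImplicit false

open scoped Classical

namespace CfsgLib.Blocks.RealDefect

variable {G : Type*} [Group G] [Fintype G]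

/-- The order of the centraliser modulo two. -/
noncomputable def cc (u : G) : ZMod 2 := (Finset.univ.filter fun c : G => Commute c u).card

theorem cc_eq_natCard (u : G) :
    cc u = (Nat.card (Subgroup.centralizer ({u} : Set G)) : ZMod 2) := by
  rw [cc, ← Fintype.card_subtype, Nat.card_eq_fintype_card]
  congr 1
  exact Fintype.card_congr
    (Equiv.subtypeEquivRight fun c => Subgroup.mem_centralizer_singleton_iff.symm)

theorem sum_eq_sum_fixed {α : Type*} (s : Finset α) (f : α → ZMod 2) (τ : α → α)
    (h1 : ∀ a ∈ s, τ a ∈ s) (h2 : ∀ a ∈ s, τ (τ a) = a) (h3 : ∀ a ∈ s, f (τ a) = f a) :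
    ∑ a ∈ s, f a = ∑ a ∈ s.filter (fun a => τ a = a), f a := by
  rw [← Finset.sum_filter_add_sum_filter_not s (fun a => τ a = a), add_eq_left]
  refine Finset.sum_involution (fun a _ => τ a) ?_ ?_ ?_ ?_
  · intro a ha
    rw [h3 a (Finset.mem_filter.1 ha).1]
    exact CharTwo.add_self_eq_zero _
  · intro a ha _
    exact (Finset.mem_filter.1 ha).2
  · intro a ha
    obtain ⟨ha, hne⟩ := Finset.mem_filter.1 ha
    exact Finset.mem_filter.2 ⟨h1 a ha, fun h => hne (by rw [h2 a ha] at h; exact h.symm)⟩
  · intro a ha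
    exact h2 a (Finset.mem_filter.1 ha).1

theorem card_eq_card_fixed {α : Type*} (s : Finset α) (τ : α → α) (h1 : ∀ a ∈ s, τ a ∈ s)
    (h2 : ∀ a ∈ s, τ (τ a) = a) :
    (s.card : ZMod 2) = (s.filter (fun a => τ a = a)).card := by
  have := sum_eq_sum_fixed s (fun _ => 1) τ h1 h2 fun _ _ => rfl
  simpa using this

theorem inv_eq_self_iff {t : G} : t⁻¹ = t ↔ t * t = 1 := by
  rw [inv_eq_iff_mul_eq_one]

theorem cc_eq_invol (u : G) :
    cc u = ((Finset.univ.filter fun c : G => c * c = 1 ∧ Commute c u).card : ZMod 2) := by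
  rw [cc, card_eq_card_fixed _ (fun c => c⁻¹)
    (fun a ha => by simpa using (Finset.mem_filter.1 ha).2.inv_left) (fun a _ => inv_inv a)]
  congr 2
  ext c
  simp [inv_eq_self_iff, and_comm]

theorem cc_conj (a u : G) : cc (a * u * a⁻¹) = cc u := by
  rw [cc, cc]
  congr 1
  refine (Finset.card_equiv (MulAut.conj a).toEquiv fun c => ?_).symm
  simp only [Finset.mem_filter, Finset.mem_univ, true_and]
  exact (commute_map_iff (MulAut.conj a).injective).symm

theorem cc_inv (u : G) : cc u⁻¹ = cc u := by
  rw [cc, cc]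
  congr 2
  ext c
  simp

/-- The number of factorisations of `g` into elements with centralisers of odd order is odd. -/
theorem sum_cc_mul_cc (hab : ∀ a b : G, a * a = 1 → b * b = 1 → (a * b) ^ 4 = 1 → Commute a b)
    {g x : G} (hg : Odd (orderOf g)) (hx : x * x = 1) (hinv : x * g * x = g⁻¹)
    (hC : Odd (Nat.card (Subgroup.centralizer ({g} : Set G)))) :
    ∑ u : G, cc u * cc (u⁻¹ * g) = 1 := by
  have hxi : x⁻¹ = x := inv_eq_self_iff.2 hx
  have hxg : ∀ a : ℤ, x * g ^ a = g ^ (-a) * x := fun a => by
    have h := conj_zpow (i := a) (a := x) (b := g)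
    rw [hxi, hinv, inv_zpow, ← zpow_neg] at h
    rw [h, mul_assoc, hx, mul_one]
  obtain ⟨r, hr⟩ := hg
  set i : ℤ := (r : ℤ) + 1
  have hi : g ^ (2 * i) = g := by
    have : (2 * i : ℤ) = ((2 * r + 1 : ℕ) : ℤ) + 1 := by simp only [i]; push_cast; ring
    rw [this, zpow_add, zpow_natCast, ← hr, pow_orderOf_eq_one, one_mul, zpow_one]
  set l : ℤ := i * i
  have hl : g ^ (2 * l) = g ^ i := by
    rw [show (2 * l : ℤ) = (2 * i) * i by simp only [l]; ring, zpow_mul, hi]
  have hrx : ∀ a b : ℤ, (g ^ a * x) * (g ^ b * x) = g ^ (a - b) := fun a b => by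
    rw [mul_assoc, ← mul_assoc x, hxg, mul_assoc (g ^ (-b)), hx, mul_one, ← zpow_add, sub_eq_add_neg]
  set y := g * x with hy
  set m := g ^ i * x with hm
  set w := g ^ l * x with hw
  have hmm : m * m = 1 := by rw [hm, hrx, sub_self, zpow_zero]
  have hww : w * w = 1 := by rw [hw, hrx, sub_self, zpow_zero]
  have hmi : m⁻¹ = m := inv_eq_self_iff.2 hmm
  have hmxm : m * x * m = y := by
    rw [hm, mul_assoc (g ^ i) x x, hx, mul_one, ← mul_assoc, ← zpow_add, ← two_mul, hi]
  have hwxw : w * x * w = m := by
    rw [hw, hm, mul_assoc (g ^ l) x x, hx, mul_one, ← mul_assoc, ← zpow_add, ← two_mul, hl]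
  have hwmw : w * m * w = x := by
    rw [hw, hm, hrx, ← mul_assoc, ← zpow_add, show l - i + l = 2 * l - i by ring, zpow_sub, hl,
      mul_inv_cancel, one_mul]
  have hmym : m * y * m = x := by
    rw [← hmxm]
    calc m * (m * x * m) * m = (m * m) * x * (m * m) := by group
      _ = x := by rw [hmm, one_mul, mul_one]
  clear_value m w y
  -- first pairing
  rw [sum_eq_sum_fixed Finset.univ _ (fun u => x * g⁻¹ * u * x) (fun _ _ => Finset.mem_univ _)
    (fun u _ => by
      calc x * g⁻¹ * (x * g⁻¹ * u * x) * x = (x * g⁻¹ * x) * g⁻¹ * u * (x * x) := by group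
        _ = (x * g * x)⁻¹ * g⁻¹ * u * (x * x) := by
          rw [show (x * g * x)⁻¹ = x * g⁻¹ * x by rw [mul_inv_rev, mul_inv_rev, hxi, mul_assoc]]
        _ = u := by rw [hinv, inv_inv, hx, mul_inv_cancel, one_mul, mul_one])
    (fun u _ => by
      have e : (x * g⁻¹ * u * x)⁻¹ * g = x * u⁻¹ * x⁻¹ := by
        calc (x * g⁻¹ * u * x)⁻¹ * g = x⁻¹ * u⁻¹ * g * x⁻¹ * g := by group
          _ = x⁻¹ * u⁻¹ * g * (x * g * x) * x⁻¹ := by rw [hxi]; simp [mul_assoc, hx]
          _ = x * u⁻¹ * x⁻¹ := by rw [hinv, hxi]; group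
      have e' : x * g⁻¹ * u * x = x * (u⁻¹ * g)⁻¹ * x⁻¹ := by rw [hxi]; group
      rw [e, e', cc_conj, cc_conj, cc_inv, cc_inv, mul_comm])]
  have hfix : ∀ u : G, x * g⁻¹ * u * x = u ↔ u * x = y * u := fun u => by
    constructor
    · intro h
      calc u * x = g * x * (x * g⁻¹ * u * x) := by
            calc u * x = g * (x * x) * g⁻¹ * u * x := by rw [hx]; group
              _ = _ := by group
        _ = y * u := by rw [h, hy]
    · intro h
      calc x * g⁻¹ * u * x = x * g⁻¹ * (u * x) := by group
        _ = x * g⁻¹ * (g * x * u) := by rw [h, hy]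
        _ = (x * x) * u := by group
        _ = u := by rw [hx, one_mul]
  have hterm : ∀ u ∈ Finset.univ.filter (fun u : G => x * g⁻¹ * u * x = u),
      cc u * cc (u⁻¹ * g) = ∑ t ∈ Finset.univ.filter (fun t : G => t * t = 1),
        if Commute t u then 1 else 0 := by
    intro u hu
    have h := (hfix u).1 (Finset.mem_filter.1 hu).2
    have hc : cc (u⁻¹ * g) = cc u := by
      have e : u⁻¹ * g = x * u⁻¹ * x⁻¹ := by
        calc u⁻¹ * g = u⁻¹ * (y * u) * u⁻¹ * x⁻¹ := by rw [hy]; group
          _ = u⁻¹ * (u * x) * u⁻¹ * x⁻¹ := by rw [h]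
          _ = x * u⁻¹ * x⁻¹ := by group
      rw [e, cc_conj, cc_inv]
    rw [hc, show cc u * cc u = cc u from (by decide : ∀ a : ZMod 2, a * a = a) _, cc_eq_invol,
      Finset.sum_boole, Finset.filter_filter]
  rw [Finset.sum_congr rfl hterm, Finset.sum_comm]
  simp only [Finset.sum_boole, Finset.filter_filter]
  set T := Finset.univ.filter fun t : G => t * t = 1 with hT
  set U : G → Finset G := fun t =>
    Finset.univ.filter fun u : G => x * g⁻¹ * u * x = u ∧ Commute t u with hU
  show ∑ t ∈ T, ((U t).card : ZMod 2) = 1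
  have hconjm : ∀ a b : G, Commute a b → Commute (m * a * m) (m * b * m) := fun a b h => by
    show m * a * m * (m * b * m) = m * b * m * (m * a * m)
    calc m * a * m * (m * b * m) = m * a * (m * m) * b * m := by group
      _ = m * (a * b) * m := by rw [hmm]; group
      _ = m * (b * a) * m := by rw [h.eq]
      _ = m * b * (m * m) * a * m := by rw [hmm]; group
      _ = _ := by group
  have hUm : ∀ t : G, ((U (m * t * m)).card : ZMod 2) = (U t).card := by
    intro t
    congr 1
    have hmt : m * (m * t * m) * m = t := by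
      calc m * (m * t * m) * m = (m * m) * t * (m * m) := by group
        _ = t := by rw [hmm, one_mul, mul_one]
    have key : ∀ t u : G, u ∈ U t → m * u⁻¹ * m ∈ U (m * t * m) := by
      intro t u hu
      simp only [hU, Finset.mem_filter, Finset.mem_univ, true_and, hfix] at hu ⊢
      refine ⟨?_, hconjm _ _ hu.2.inv_right⟩
      calc m * u⁻¹ * m * x = m * u⁻¹ * (m * x * m) * m := by simp [mul_assoc, hmm]
        _ = m * (u⁻¹ * (y * u)) * u⁻¹ * m := by rw [hmxm]; group
        _ = m * x * u⁻¹ * m := by rw [← hu.1]; group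
        _ = m * x * (m * m) * u⁻¹ * m := by rw [hmm, mul_one]
        _ = y * (m * u⁻¹ * m) := by rw [← hmxm]; group
    have hinvol : ∀ u : G, m * (m * u⁻¹ * m)⁻¹ * m = u := fun u => by
      calc m * (m * u⁻¹ * m)⁻¹ * m = m * m⁻¹ * u * (m⁻¹ * m) := by group
        _ = u := by group
    refine Finset.card_nbij' (fun u => m * u⁻¹ * m) (fun u => m * u⁻¹ * m) ?_ ?_ ?_ ?_
    · intro u hu
      have := key _ u hu
      rwa [hmt] at this
    · intro u hu
      exact key _ u hu
    · intro u _
      exact hinvol u
    · intro u _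
      exact hinvol u
  rw [sum_eq_sum_fixed T (fun t => ((U t).card : ZMod 2)) (fun t => m * t * m)
    (fun t ht => by
      simp only [hT, Finset.mem_filter, Finset.mem_univ, true_and] at ht ⊢
      calc m * t * m * (m * t * m) = m * t * (m * m) * t * m := by group
        _ = 1 := by rw [hmm, mul_one, mul_assoc m t t, ht, mul_one, hmm])
    (fun t _ => by
      calc m * (m * t * m) * m = (m * m) * t * (m * m) := by group
        _ = t := by rw [hmm, one_mul, mul_one])
    (fun t _ => hUm t)]
  have hcount : ∀ t ∈ T.filter (fun t => m * t * m = t), ((U t).card : ZMod 2)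
      = ((Finset.univ.filter fun c : G => c * c = 1 ∧ Commute c t ∧ Commute c x).card : ZMod 2) := by
    intro t ht
    have hmt : Commute t m := by
      have h := (Finset.mem_filter.1 ht).2
      calc t * m = m * t * m * m := by rw [h]
        _ = m * t := by rw [mul_assoc (m * t), hmm, mul_one]
    have e : (U t).card = (Finset.univ.filter fun c : G => Commute c t ∧ Commute c x).card := by
      refine Finset.card_equiv (Equiv.mulLeft m) fun u => ?_
      simp only [hU, Finset.mem_filter, Finset.mem_univ, true_and, hfix, Equiv.coe_mulLeft]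
      constructor
      · rintro ⟨h1, h2⟩
        refine ⟨((hmt.mul_right h2)).symm, ?_⟩
        calc m * u * x = m * (y * u) := by rw [mul_assoc, h1]
          _ = m * y * (m * m) * u := by rw [hmm]; group
          _ = x * (m * u) := by rw [← hmym]; group
      · rintro ⟨h1, h2⟩
        have hu : u = m * (m * u) := by rw [← mul_assoc, hmm, one_mul]
        refine ⟨?_, ?_⟩
        · calc u * x = m * (m * u * x) := by rw [mul_assoc, ← mul_assoc m m, hmm, one_mul]
            _ = m * x * (m * u) := by rw [h2.eq]; group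
            _ = y * u := by rw [← hmxm]; group
        · rw [hu]
          exact hmt.mul_right h1.symm
    rw [e, card_eq_card_fixed _ (fun c => c⁻¹)
      (fun a ha => by
        obtain ⟨h1, h2⟩ := (Finset.mem_filter.1 ha).2
        exact Finset.mem_filter.2 ⟨Finset.mem_univ _, h1.inv_left, h2.inv_left⟩)
      (fun a _ => inv_inv a)]
    congr 2
    ext c
    simp [inv_eq_self_iff, and_comm, and_assoc]
  rw [Finset.sum_congr rfl hcount, ← Nat.cast_sum, ← Finset.card_sigma]
  set P := (T.filter (fun t => m * t * m = t)).sigma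
    fun t => Finset.univ.filter fun c : G => c * c = 1 ∧ Commute c t ∧ Commute c x with hP
  have hmem : ∀ p : (_ : G) × G, p ∈ P ↔ (p.1 * p.1 = 1 ∧ Commute p.1 m) ∧
      (p.2 * p.2 = 1 ∧ Commute p.2 p.1 ∧ Commute p.2 x) := fun p => by
    have : ∀ t : G, m * t * m = t ↔ Commute t m := fun t => ⟨fun h => by
      calc t * m = m * t * m * m := by rw [h]
        _ = m * t := by rw [mul_assoc (m * t), hmm, mul_one],
      fun h => by rw [← h.eq, mul_assoc, hmm, mul_one]⟩
    simp [hP, hT, this]
  have hconjw : ∀ a b : G, Commute a b → Commute (w * a * w) (w * b * w) := fun a b h => by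
    show w * a * w * (w * b * w) = w * b * w * (w * a * w)
    calc w * a * w * (w * b * w) = w * a * (w * w) * b * w := by group
      _ = w * (a * b) * w := by rw [hww]; group
      _ = w * (b * a) * w := by rw [h.eq]
      _ = w * b * (w * w) * a * w := by rw [hww]; group
      _ = _ := by group
  have hwsq : ∀ a : G, a * a = 1 → w * a * w * (w * a * w) = 1 := fun a ha => by
    calc w * a * w * (w * a * w) = w * a * (w * w) * a * w := by group
      _ = 1 := by rw [hww, mul_one, mul_assoc w a a, ha, mul_one, hww]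
  have hwinv : ∀ a : G, w * (w * a * w) * w = a := fun a => by
    calc w * (w * a * w) * w = (w * w) * a * (w * w) := by group
      _ = a := by rw [hww, one_mul, mul_one]
  rw [card_eq_card_fixed P (fun p => ⟨w * p.2 * w, w * p.1 * w⟩)
    (fun p hp => by
      obtain ⟨⟨h1, h2⟩, h3, h4, h5⟩ := (hmem p).1 hp
      refine (hmem _).2 ⟨⟨hwsq _ h3, ?_⟩, hwsq _ h1, hconjw _ _ h4.symm, ?_⟩
      · have := hconjw _ _ h5; rwa [hwxw] at this
      · have := hconjw _ _ h2; rwa [hwmw] at this)
    (fun p _ => by simp [hwinv])]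
  suffices e : P.filter (fun p : (_ : G) × G => (⟨w * p.2 * w, w * p.1 * w⟩ : (_ : G) × G) = p)
      = {⟨1, 1⟩} by
    refine Eq.trans ?_ ((congrArg (fun s => ((Finset.card s : ℕ) : ZMod 2)) e).trans (by simp))
    congr 2
    ext p
    simp only [Finset.mem_filter]
  refine Finset.eq_singleton_iff_unique_mem.2 ⟨?_, ?_⟩
  · refine Finset.mem_filter.2 ⟨(hmem _).2 ⟨⟨mul_one 1, Commute.one_left m⟩, mul_one 1,
      Commute.one_left _, Commute.one_left x⟩, ?_⟩
    simp [hww]
  · rintro ⟨t, c⟩ hp
    obtain ⟨hp, he⟩ := Finset.mem_filter.1 hp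
    obtain ⟨⟨h1, h2⟩, h3, h4, h5⟩ := (hmem _).1 hp
    obtain he2 : w * t * w = c := congrArg (fun p : (_ : G) × G => p.2) he
    subst he2
    dsimp only at h1 h2 h3 h4 h5
    have h4' : (t * w) ^ 4 = 1 := by
      calc (t * w) ^ 4 = t * (w * t * w) * (t * (w * t * w)) := by simp only [pow_succ, pow_zero, one_mul, mul_assoc]
        _ = t * t * ((w * t * w) * (w * t * w)) := by
          rw [mul_assoc, ← mul_assoc (w * t * w) t, h4.eq, mul_assoc t (w * t * w), ← mul_assoc]
        _ = 1 := by rw [h1, h3, mul_one]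
    have htw : Commute t w := hab t w h1 hww h4'
    have hc : w * t * w = t := by rw [← htw.eq, mul_assoc, hww, mul_one]
    rw [hc] at h5 ⊢
    have hgi : Commute t (g ^ i) := by
      have := h2.mul_right h5
      rwa [hm, mul_assoc, hx, mul_one] at this
    have htg : Commute t g := by
      have := hgi.mul_right hgi
      rwa [← zpow_add, ← two_mul, hi] at this
    have ht1 : t = 1 := by
      rw [← orderOf_eq_one_iff]
      have hd : orderOf t ∣ 2 := orderOf_dvd_of_pow_eq_one (by rw [sq, h1])
      rcases (Nat.dvd_prime Nat.prime_two).1 hd with h | h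
      · exact h
      · exfalso
        have := Subgroup.orderOf_dvd_natCard (Subgroup.centralizer ({g} : Set G))
          (Subgroup.mem_centralizer_singleton_iff.2 htg.eq)
        rw [h] at this
        exact (Nat.not_even_iff_odd.2 hC) (even_iff_two_dvd.2 this)
    rw [ht1]

end CfsgLib.Blocks.RealDefect
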