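import Cfsg.Prelude.Def_Blocks
import Cfsg.Agent.Lib.Blocks.RealDefect.Parity
import Cfsg.Agent.Lib.Blocks.Defect
import Cfsg.Agent.Lib.Blocks.Parts
import Cfsg.Agent.Lib.Char.Monomial
import Cfsg.Agent.Lib.Involution.ZStar.PrincipalBlock
import Cfsg.Agent.Lib.Involution.BaerSuzuki

/-!
# A Galois-fixed character of even degree when the Sylow 2-subgroups are abelian

Let `k` fix the 2-elements and invert the elements of odd order.  If the Sylow 2-subgroups are
abelian and some element `h ≠ 1` of odd order is real, the sum over the coset of a defect group of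
`h` of the coefficients of the square of its class sum is odd, while all contributions of paired
characters and of fixed characters of odd degree are even.
-/

set_option autoImplicit false
set_option maxHeartbeats 800000

open scoped Classical

namespace CfsgLib.Blocks.RealDefect

open Cfsg CfsgLib CfsgLib.Blocks

universe u

variable {G : Type u} [Group G] [Fintype G]

theorem odd_orderOf_iff {g : G} : Odd (orderOf g) ↔ ¬ 2 ∣ orderOf g := by
  rw [← Nat.not_even_iff_odd, even_iff_two_dvd]

theorem eq_one_of_two_pow_of_odd {d : G} {j n : ℕ} (hd : orderOf d = 2 ^ j) (hn : Odd n)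
    (h : d ^ n = 1) : d = 1 := by
  rw [← orderOf_eq_one_iff]
  refine Nat.eq_one_of_dvd_coprimes (Nat.Coprime.pow_left j (Nat.coprime_two_left.2 hn)) ?_
    (orderOf_dvd_of_pow_eq_one h)
  rw [hd]

section Galois

variable {k : ℕ} (hk₁ : ∀ g : G, (∃ j : ℕ, orderOf g = 2 ^ j) → g ^ k = g)
  (hk₂ : ∀ g : G, Odd (orderOf g) → g ^ k = g⁻¹)

include hk₁ hk₂

theorem coprime_card : (Nat.card G).Coprime k := by
  refine Nat.coprime_of_dvd fun p hp hpG hpk => ?_
  haveI := Fact.mk hp
  obtain ⟨g, hg⟩ := exists_prime_orderOf_dvd_card' p hpG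
  have h1 : g ^ k = 1 := by rw [← orderOf_dvd_iff_pow_eq_one, hg]; exact hpk
  have hne : g ≠ 1 := fun h => hp.ne_one (by rw [← hg, h, orderOf_one])
  rcases hp.eq_two_or_odd' with h2 | h2
  · exact hne (by rw [← hk₁ g ⟨1, by rw [hg, h2, pow_one]⟩, h1])
  · exact hne (by rw [← inv_eq_one, ← hk₂ g (hg ▸ h2), h1])

theorem pow_pow_self (g : G) : (g ^ k) ^ k = g := by
  obtain ⟨x, y, -, hxy, hc, hy, hx, -, -⟩ := exists_isPPart Nat.prime_two g
  have hy' : Odd (orderOf y) := odd_orderOf_iff.2 hy
  rw [← hxy, hc.mul_pow, hk₁ x hx, hk₂ y hy', hc.inv_right.mul_pow, hk₁ x hx,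
    hk₂ y⁻¹ (by rwa [orderOf_inv]), inv_inv]

/-- The conjugate character under `g ↦ g ^ k`. -/
noncomputable def twist (χ : IrrCharacter G) : IrrCharacter G :=
  ⟨fun g => (χ : G → ℂ) (g ^ k),
    Char.IsIrrCharacter.comp_pow χ.2 k (coprime_card hk₁ hk₂)⟩

theorem twist_twist (χ : IrrCharacter G) : twist hk₁ hk₂ (twist hk₁ hk₂ χ) = χ :=
  Subtype.ext (funext fun g => by
    show (χ : G → ℂ) ((g ^ k) ^ k) = (χ : G → ℂ) g
    rw [pow_pow_self hk₁ hk₂])

theorem fixed_of_twist {χ : IrrCharacter G} (h : twist hk₁ hk₂ χ = χ) (g : G) :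
    (χ : G → ℂ) (g ^ k) = (χ : G → ℂ) g :=
  congrFun (congrArg Subtype.val h) g

theorem twist_one (χ : IrrCharacter G) :
    (twist hk₁ hk₂ χ : G → ℂ) 1 = (χ : G → ℂ) 1 := congrArg (χ : G → ℂ) (one_pow k)

end Galois

/-- A sum invariant under an involution with fixed terms in the ideal lies in the ideal. -/
theorem LI_sum_of_involutive {M : Ideal AlgInt} (hM : IsPModular 2 M) {α : Type*} (f : α → ℂ)
    (τ : α → α) (s : Finset α) (h1 : ∀ a ∈ s, τ a ∈ s) (h2 : ∀ a ∈ s, τ (τ a) = a)
    (h3 : ∀ a ∈ s, f (τ a) = f a) (hR : ∀ a ∈ s, MemLocalRing M (f a))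
    (hfix : ∀ a ∈ s, τ a = a → MemLocalIdeal M (f a)) : MemLocalIdeal M (∑ a ∈ s, f a) := by
  induction s using Finset.strongInduction with
  | _ s ih =>
    rcases s.eq_empty_or_nonempty with rfl | ⟨a, ha⟩
    · simpa using LI.zero hM
    set t := (s.erase a).erase (τ a) with ht
    have hts : ∀ b, b ∈ t ↔ b ≠ τ a ∧ b ≠ a ∧ b ∈ s := fun b => by simp [ht]
    have hsub : t ⊂ s := by
      refine Finset.ssubset_iff_of_subset (fun b hb => ((hts b).1 hb).2.2) |>.2 ⟨a, ha, ?_⟩
      exact fun h => ((hts a).1 h).2.1 rfl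
    have hI : MemLocalIdeal M (∑ b ∈ t, f b) := by
      refine ih t hsub (fun b hb => ?_) (fun b hb => h2 b ((hts b).1 hb).2.2)
        (fun b hb => h3 b ((hts b).1 hb).2.2) (fun b hb => hR b ((hts b).1 hb).2.2)
        (fun b hb => hfix b ((hts b).1 hb).2.2)
      obtain ⟨hb1, hb2, hb3⟩ := (hts b).1 hb
      refine (hts _).2 ⟨fun h => hb2 ?_, fun h => hb1 ?_, h1 b hb3⟩
      · rw [← h2 b hb3, h, h2 a ha]
      · rw [← h2 b hb3, h]
    rw [← Finset.add_sum_erase s f ha]
    by_cases hτ : τ a = a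
    · have : t = s.erase a := by rw [ht, hτ, Finset.erase_idem]
      rw [← this]
      exact LI.add hM (hfix a ha hτ) hI
    · rw [← Finset.add_sum_erase (s.erase a) f (Finset.mem_erase.2 ⟨hτ, h1 a ha⟩), ← ht, ← add_assoc,
        h3 a ha]
      refine LI.add hM ?_ hI
      rw [← two_mul]
      exact LI.mul_right hM (by simpa using LI.natCast_prime hM) (hR a ha)

/-- Some nonprincipal character of the principal 2-block is fixed. -/
theorem exists_fixed_principal {M : Ideal AlgInt} (hM : IsPModular 2 M) (hev : Even (Nat.card G))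
    {k : ℕ} (hk₁ : ∀ g : G, (∃ j : ℕ, orderOf g = 2 ^ j) → g ^ k = g)
    (hk₂ : ∀ g : G, Odd (orderOf g) → g ^ k = g⁻¹) :
    ∃ χ ∈ principalBlock M G, (χ : G → ℂ) ≠ (fun _ => 1) ∧
      ∀ g : G, (χ : G → ℂ) (g ^ k) = (χ : G → ℂ) g := by
  haveI : Fact (Nat.Prime 2) := ⟨Nat.prime_two⟩
  by_contra hcon
  push Not at hcon
  obtain ⟨u, hu⟩ := exists_prime_orderOf_dvd_card' 2 (even_iff_two_dvd.1 hev)
  have hB : IsPBlock M (principalBlock M G) := isPBlock_principalBlock
  have h0 := Involution.ZStar.sum_degree_mul_eq_zero hM hB (g := u) (by rw [hu])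
  have ht1 : trivChar G ∈ (principalBlock M G).toFinset :=
    Set.mem_toFinset.2 (trivChar_mem_principalBlock hM)
  rw [← Finset.add_sum_erase _ _ ht1] at h0
  have htriv : ∀ g : G, (trivChar G : G → ℂ) g = 1 := fun g => rfl
  rw [htriv, htriv, one_mul] at h0
  set f : IrrCharacter G → ℂ := fun χ => (χ : G → ℂ) 1 * (χ : G → ℂ) u
  have hcent : ∀ (χ : IrrCharacter G) (g : G),
      centralChar (twist hk₁ hk₂ χ : G → ℂ) g = centralChar (χ : G → ℂ) (g ^ k) := fun χ g => by
    unfold centralChar
    rw [twist_one]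
    have : Subgroup.centralizer ({g ^ k} : Set G) = Subgroup.centralizer ({g} : Set G) := by
      ext c
      simp only [Subgroup.mem_centralizer_singleton_iff]
      refine ⟨fun h => ?_, fun h => ((show Commute c g from h).pow_right k).eq⟩
      have := (show Commute c (g ^ k) from h).pow_right k
      rwa [pow_pow_self hk₁ hk₂] at this
    rw [this]
    rfl
  have hmemB : ∀ χ ∈ (principalBlock M G).toFinset,
      twist hk₁ hk₂ χ ∈ (principalBlock M G).toFinset := fun χ hχ => by
    rw [Set.mem_toFinset] at hχ ⊢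
    intro g
    have e : centralChar (fun _ : G => (1 : ℂ)) g = centralChar (fun _ : G => (1 : ℂ)) (g ^ k) := by
      have := hcent (trivChar G) g
      rwa [show (twist hk₁ hk₂ (trivChar G) : G → ℂ) = fun _ => 1 from funext fun x => htriv _,
        show (trivChar G : G → ℂ) = fun _ => 1 from funext htriv] at this
    rw [hcent, e]
    exact hχ (g ^ k)
  have hI : MemLocalIdeal M (∑ χ ∈ (principalBlock M G).toFinset.erase (trivChar G), f χ) := by
    refine LI_sum_of_involutive hM f (twist hk₁ hk₂) _ (fun χ hχ => ?_)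
      (fun χ _ => twist_twist hk₁ hk₂ χ) (fun χ _ => ?_) (fun χ _ => ?_) (fun χ hχ hfix => ?_)
    · obtain ⟨hne, hm⟩ := Finset.mem_erase.1 hχ
      refine Finset.mem_erase.2 ⟨fun h => hne ?_, hmemB χ hm⟩
      rw [← twist_twist hk₁ hk₂ χ, h]
      exact Subtype.ext (funext fun g => rfl)
    · show (twist hk₁ hk₂ χ : G → ℂ) 1 * (χ : G → ℂ) (u ^ k) = _
      rw [twist_one, hk₁ u ⟨1, by rw [hu, pow_one]⟩]
    · exact LR.of_isIntegral hM ((irr_isIntegral χ 1).mul (irr_isIntegral χ u))
    · obtain ⟨hne, hm⟩ := Finset.mem_erase.1 hχ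
      obtain ⟨g, hg⟩ := hcon χ (Set.mem_toFinset.1 hm)
        (fun h => hne (Subtype.ext (h.trans (funext htriv).symm)))
      exact absurd (fixed_of_twist hk₁ hk₂ hfix g) hg
  rw [show (∑ χ ∈ (principalBlock M G).toFinset.erase (trivChar G), f χ) = -1 by linear_combination h0]
    at hI
  exact LI.not_one hM (by simpa using LI.neg hI)

section Defect

variable (D : Subgroup G)

instance normal_subgroupOf_centralizer :
    (D.subgroupOf (Subgroup.centralizer (D : Set G))).Normal := by
  refine ⟨fun a ha c => ?_⟩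
  have h : (a : G) * c = c * a :=
    Subgroup.mem_centralizer_iff.1 c.2 a (Subgroup.mem_subgroupOf.1 ha)
  rw [Subgroup.mem_subgroupOf] at ha ⊢
  push_cast
  rwa [← h, mul_inv_cancel_right]

/-- The projection of the centraliser of `D` modulo `D`. -/
noncomputable def proj : Subgroup.centralizer (D : Set G) →*
    ↥(Subgroup.centralizer (D : Set G)) ⧸ D.subgroupOf (Subgroup.centralizer (D : Set G)) :=
  QuotientGroup.mk' _

variable {D}

theorem proj_eq_one {a : Subgroup.centralizer (D : Set G)} : proj D a = 1 ↔ (a : G) ∈ D := by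
  rw [proj, QuotientGroup.mk'_apply, QuotientGroup.eq_one_iff, Subgroup.mem_subgroupOf]

theorem proj_injOn_odd (hD : IsPGroup 2 D) {a b : Subgroup.centralizer (D : Set G)}
    (ha : Odd (orderOf (a : G))) (hb : Odd (orderOf (b : G))) (h : proj D a = proj D b) : a = b := by
  have hd : ((a⁻¹ * b : Subgroup.centralizer (D : Set G)) : G) ∈ D :=
    proj_eq_one.1 (by rw [map_mul, map_inv, h, inv_mul_cancel])
  set d : G := (a : G)⁻¹ * b with hdd
  obtain ⟨j, hj⟩ := IsPGroup.iff_orderOf.1 hD ⟨d, hd⟩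
  rw [← Subgroup.orderOf_coe] at hj
  have hc : Commute (a : G) d := (Subgroup.mem_centralizer_iff.1 a.2 d hd).symm
  have e : (b : G) = (a : G) * d := by rw [hdd, mul_inv_cancel_left]
  have h1 : d ^ (orderOf (a : G) * orderOf (b : G)) = 1 := by
    have : (b : G) ^ (orderOf (a : G) * orderOf (b : G)) = 1 := by
      rw [mul_comm, pow_mul, pow_orderOf_eq_one, one_pow]
    rwa [e, hc.mul_pow, ← e, pow_mul (a : G), pow_orderOf_eq_one, one_pow, one_mul] at this
  have hd1 : d = 1 := eq_one_of_two_pow_of_odd hj (ha.mul hb) h1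
  rw [hd1, mul_one] at e
  exact Subtype.ext e.symm

variable (hab : ∀ H : Subgroup G, IsPGroup 2 H → ∀ a ∈ H, ∀ b ∈ H, Commute a b)

/-- An element of two-power order commuting with `D` generates with it a 2-group. -/
theorem isPGroup_sup (hD : IsPGroup 2 D) {c : G} (hc : ∀ d ∈ D, Commute d c) {j : ℕ}
    (hj : orderOf c = 2 ^ j) : IsPGroup 2 (D ⊔ Subgroup.zpowers c : Subgroup G) := by
  refine IsPGroup.to_sup_of_normal_left' hD (Involution.Basic.isPGroup_zpowers (p := 2) hj) ?_
  rw [Subgroup.zpowers_le]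
  exact Subgroup.centralizer_le_normalizer _ (Subgroup.mem_centralizer_iff.2 fun d hd => (hc d hd).eq)

include hab in
/-- Odd centraliser modulo `D` means that `D` is a Sylow subgroup of the centraliser. -/
theorem odd_centralizer_proj_iff (hD : IsPGroup 2 D) {y : Subgroup.centralizer (D : Set G)}
    (hy : Odd (orderOf (y : G))) :
    Odd (Nat.card (Subgroup.centralizer ({proj D y} : Set (_ ⧸ D.subgroupOf _)))) ↔
      (Nat.card (Subgroup.centralizer ({(y : G)} : Set G))).factorization 2
        = (Nat.card D).factorization 2 := by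
  haveI : Fact (Nat.Prime 2) := ⟨Nat.prime_two⟩
  have hDC : D ≤ Subgroup.centralizer ({(y : G)} : Set G) := fun d hd =>
    Subgroup.mem_centralizer_singleton_iff.2 (Subgroup.mem_centralizer_iff.1 y.2 d hd)
  constructor
  · intro hodd
    obtain ⟨R, hR⟩ := (hD.comap_subtype (K := Subgroup.centralizer ({(y : G)} : Set G))).exists_le_sylow
    set R' : Subgroup G := (R : Subgroup _).map (Subgroup.centralizer ({(y : G)} : Set G)).subtype
      with hR'
    have hR'p : IsPGroup 2 R' := R.2.map _
    have hDR : D ≤ R' := fun d hd => ⟨⟨d, hDC hd⟩, hR hd, rfl⟩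
    have hRD : R' = D := by
      refine le_antisymm (fun r hr => ?_) hDR
      have hrc : r ∈ Subgroup.centralizer (D : Set G) :=
        Subgroup.mem_centralizer_iff.2 fun d hd => (hab R' hR'p d (hDR hd) r hr).eq
      obtain ⟨j, hj⟩ := IsPGroup.iff_orderOf.1 hR'p ⟨r, hr⟩
      rw [← Subgroup.orderOf_coe] at hj
      have hry : Commute r (y : G) := by
        obtain ⟨⟨r', hr'⟩, -, e⟩ := hr
        exact e ▸ Subgroup.mem_centralizer_singleton_iff.1 hr'
      set rC : Subgroup.centralizer (D : Set G) := ⟨r, hrc⟩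
      have hm : proj D rC ∈ Subgroup.centralizer ({proj D y} : Set (_ ⧸ D.subgroupOf _)) :=
        Subgroup.mem_centralizer_singleton_iff.2
          ((show Commute rC y from Subtype.ext hry.eq).map (proj D)).eq
      refine (proj_eq_one (a := rC)).1 (orderOf_eq_one_iff.1 ?_)
      refine Nat.eq_one_of_dvd_coprimes (Nat.Coprime.pow_left j (Nat.coprime_two_left.2 hodd)) ?_
        (Subgroup.orderOf_dvd_natCard _ hm)
      rw [← hj]
      exact (orderOf_map_dvd (proj D) rC).trans (by rw [← Subgroup.orderOf_coe])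
    have hc : Nat.card R' =
        Nat.card (R : Subgroup (Subgroup.centralizer ({(y : G)} : Set G))) := by
      rw [hR']; exact Subgroup.card_map_of_injective (Subgroup.subtype_injective _)
    rw [hRD, R.card_eq_multiplicity] at hc
    rw [hc, Nat.prime_two.factorization_pow, Finsupp.single_eq_same]
  · intro hcard
    by_contra hcon
    rw [Nat.not_odd_iff_even, even_iff_two_dvd] at hcon
    obtain ⟨⟨e, he⟩, he2⟩ := exists_prime_orderOf_dvd_card' 2 hcon
    obtain ⟨e0, rfl⟩ := QuotientGroup.mk'_surjective _ e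
    change orderOf (⟨proj D e0, he⟩ : Subgroup.centralizer _) = 2 at he2
    rw [← Subgroup.orderOf_coe] at he2
    obtain ⟨j, m, hm, hjm⟩ := Nat.exists_eq_two_pow_mul_odd (orderOf_pos e0).ne'
    have hord : orderOf ((e0 ^ m : Subgroup.centralizer (D : Set G)) : G) = 2 ^ j := by
      rw [Subgroup.orderOf_coe, orderOf_pow' _ hm.pos.ne', hjm,
        Nat.gcd_eq_right (Dvd.intro_left _ rfl), Nat.mul_div_cancel _ hm.pos]
    set c := e0 ^ m with hc
    have hpc : proj D c = proj D e0 := by
      obtain ⟨q, rfl⟩ := hm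
      have hsq : proj D e0 ^ 2 = 1 := he2 ▸ pow_orderOf_eq_one _
      rw [hc, map_pow, pow_succ, pow_mul, hsq, one_pow, one_mul]
    have hecomm : proj D e0 * proj D y = proj D y * proj D e0 :=
      Subgroup.mem_centralizer_singleton_iff.1 he
    have hcy : Commute (c : G) (y : G) := by
      have hyy : Odd (orderOf ((c * y * c⁻¹ : Subgroup.centralizer (D : Set G)) : G)) := by
        push_cast
        rwa [show (c : G) * y * (c : G)⁻¹ = MulAut.conj (c : G) y from rfl, MulEquiv.orderOf_eq]
      have := proj_injOn_odd hD hyy hy (by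
        rw [map_mul, map_mul, map_inv, hpc, hecomm, mul_inv_cancel_right])
      exact mul_inv_eq_iff_eq_mul.1 (congrArg Subtype.val this)
    have hH := isPGroup_sup hD (fun d hd => Subgroup.mem_centralizer_iff.1 c.2 d hd) hord
    obtain ⟨n, hn⟩ := IsPGroup.iff_card.1 hH
    have hle : D ⊔ Subgroup.zpowers (c : G) ≤ Subgroup.centralizer ({(y : G)} : Set G) :=
      sup_le hDC (Subgroup.zpowers_le.2 (Subgroup.mem_centralizer_singleton_iff.2 hcy.eq))
    have hdvd := Subgroup.card_dvd_of_le hle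
    rw [hn, Nat.prime_two.pow_dvd_iff_le_factorization Nat.card_pos.ne', hcard] at hdvd
    obtain ⟨nD, hnD⟩ := IsPGroup.iff_card.1 hD
    rw [hnD, Nat.prime_two.factorization_pow, Finsupp.single_eq_same] at hdvd
    have heq : D = D ⊔ Subgroup.zpowers (c : G) := by
      refine Subgroup.eq_of_le_of_card_ge le_sup_left ?_
      rw [hn, hnD]
      exact Nat.pow_le_pow_right (by norm_num) hdvd
    have h1 : proj D c = 1 := proj_eq_one.2
      ((SetLike.ext_iff.1 heq _).2 (Subgroup.mem_sup_right (Subgroup.mem_zpowers _)))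
    rw [hpc] at h1
    have h2 : orderOf (proj D e0) = 2 := he2
    rw [h1, orderOf_one] at h2
    norm_num at h2

end Defect

end CfsgLib.Blocks.RealDefect
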